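import Groth.Agent.ConeFib17.Rings
import Mathlib.AlgebraicGeometry.ProjectiveSpectrum.Basic

/-!
# Homomorphisms out of a homogeneous localisation induced by a homomorphism inverting the denominator
-/

set_option autoImplicit false
set_option linter.style.haveILetI false
set_option backward.isDefEq.respectTransparency false
set_option backward.isDefEq.respectTransparency.types false

universe u

open CategoryTheory AlgebraicGeometry HomogeneousLocalization

noncomputable section

namespace Groth.Agent.ConeFib17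

variable {B τ C : Type u} [CommRing B] [SetLike τ B] [AddSubgroupClass τ B] {ℬ : ℕ → τ} [GradedRing ℬ]
  [CommRing C] (θ : B →+* C)

/-- `x / s ^ k ↦ θ x / θ s ^ k`. -/
def liftAway {s : B} (hu : IsUnit (θ s)) : Away ℬ s →+* C :=
  (IsLocalization.Away.lift s hu).comp (algebraMap (Away ℬ s) (Localization.Away s))

theorem liftAway_spec {s : B} (hu : IsUnit (θ s)) {d : ℕ} (hs : s ∈ ℬ d) (n : ℕ) (x : B) (hx : x ∈ ℬ (n • d)) :
    liftAway θ hu (Away.mk ℬ hs n x hx) * θ s ^ n = θ x := by
  show IsLocalization.Away.lift s hu (Away.mk ℬ hs n x hx).val * θ s ^ n = θ x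
  rw [Away.val_mk, ← map_pow, ← IsLocalization.Away.lift_eq (S := Localization.Away s) s hu (s ^ n), ← map_mul,
    Localization.mk_eq_mk']
  erw [IsLocalization.mk'_spec]
  exact IsLocalization.Away.lift_eq s hu x

theorem liftAway_unique {s : B} (hu : IsUnit (θ s)) {d : ℕ} (hs : s ∈ ℬ d) (g : Away ℬ s →+* C)
    (hg : ∀ (n : ℕ) (x : B) (hx : x ∈ ℬ (n • d)), g (Away.mk ℬ hs n x hx) * θ s ^ n = θ x) :
    g = liftAway θ hu := by
  refine RingHom.ext fun a => ?_
  obtain ⟨n, x, hx, rfl⟩ := a.mk_surjective ℬ hs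
  apply (hu.pow n).mul_left_injective
  exact (hg n x hx).trans (liftAway_spec θ hu hs n x hx).symm

theorem liftAway_awayMap {s t : B} (hu : IsUnit (θ s)) (ht : IsUnit (θ t)) {d e : ℕ} (hs : s ∈ ℬ d)
    (he : t ∈ ℬ e) {w : B} (hw : w = s * t) (huw : IsUnit (θ w)) :
    (liftAway θ huw).comp (awayMap ℬ he hw) = liftAway (ℬ := ℬ) θ hu := by
  refine liftAway_unique θ hu hs _ fun n x hx => ?_
  show IsLocalization.Away.lift w huw (awayMap ℬ he hw (Away.mk ℬ hs n x hx)).val * θ s ^ n = θ x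
  rw [awayMap_mk, Away.val_mk, Localization.mk_eq_mk']
  apply (ht.pow n).mul_left_injective
  show _ * θ t ^ n = θ x * θ t ^ n
  have hsn : θ s ^ n * θ t ^ n = θ (w ^ n) := by rw [← mul_pow, ← map_mul, ← map_pow, hw]
  rw [mul_assoc, hsn, ← IsLocalization.Away.lift_eq (S := Localization.Away w) w huw (w ^ n), ← map_mul]
  erw [IsLocalization.mk'_spec]
  rw [IsLocalization.Away.lift_eq, map_mul, map_pow]

omit [CommRing C] in
theorem awayι_congr {w : B} {m m' : ℕ} (h : m = m') (hw : w ∈ ℬ m) (hw' : w ∈ ℬ m') (hm : 0 < m) (hm' : 0 < m') :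
    Proj.awayι ℬ w hw hm = Proj.awayι ℬ w hw' hm' := by
  subst h; rfl

/-- The point of `Proj ℬ` does not depend on the denominator. -/
theorem spec_liftAway_awayι {s t : B} (hu : IsUnit (θ s)) (ht : IsUnit (θ t)) {d e : ℕ} (hs : s ∈ ℬ d)
    (hd : 0 < d) (htm : t ∈ ℬ e) (he : 0 < e) :
    Spec.map (CommRingCat.ofHom (liftAway θ hu)) ≫ Proj.awayι ℬ s hs hd =
      Spec.map (CommRingCat.ofHom (liftAway θ ht)) ≫ Proj.awayι ℬ t htm he := by
  have huw : IsUnit (θ (s * t)) := by rw [map_mul]; exact hu.mul ht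
  rw [← liftAway_awayMap θ hu ht hs htm rfl huw, ← liftAway_awayMap θ ht hu htm hs (mul_comm s t) huw,
    CommRingCat.ofHom_comp, CommRingCat.ofHom_comp, Spec.map_comp, Spec.map_comp, Category.assoc, Category.assoc,
    Proj.SpecMap_awayMap_awayι, Proj.SpecMap_awayMap_awayι]
  exact congrArg _ (awayι_congr (Nat.add_comm d e) _ _ _ _)

end Groth.Agent.ConeFib17
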