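import Groth.Agent.ConeFib17.Rings
import Groth.Agent.Proj16.ConeData
import Mathlib.RingTheory.PolynomialAlgebra
import Mathlib.RingTheory.TensorProduct.MonoidAlgebra
import Mathlib.RingTheory.FiniteType
import Mathlib.AlgebraicGeometry.Morphisms.FiniteType

/-!
# Fibres of the retractions of the pointed cones
-/

set_option autoImplicit false
set_option linter.style.haveILetI false
set_option backward.isDefEq.respectTransparency false
set_option backward.isDefEq.respectTransparency.types false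

universe u

open CategoryTheory CategoryTheory.Limits AlgebraicGeometry HomogeneousLocalization
open scoped HomogeneousIdeal AlgebraMonoidAlgebra

attribute [local instance] Polynomial.algebra

noncomputable section

namespace Groth.Agent.ConeFib17

/-- The fibre at a point over which the morphism is `Spec` of a ring map with known base change. -/
theorem exists_fibre_iso {E P : Scheme.{u}} (p : E ⟶ P) {R S : CommRingCat.{u}} (φ : R ⟶ S) (a : Spec R ⟶ P)
    [IsOpenImmersion a] (c : Spec S ⟶ E) (h : IsPullback c (Spec.map φ) p a) {x : P} (hx : x ∈ Set.range a)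
    (T : CommRingCat.{u}) (ψ : P.residueField x ⟶ T)
    (H : ∀ ρ : R ⟶ P.residueField x, ∃ θ : S ⟶ T, IsPushout φ ρ θ ψ) :
    ∃ e : pullback p (P.fromSpecResidueField x) ≅ Spec T,
      e.hom ≫ Spec.map ψ = pullback.snd p (P.fromSpecResidueField x) := by
  have hr : Set.range (P.fromSpecResidueField x) ⊆ Set.range a := by
    rw [Scheme.range_fromSpecResidueField]
    exact Set.singleton_subset_iff.2 hx
  obtain ⟨ρ, hρ⟩ := Spec.map_surjective (IsOpenImmersion.lift a (P.fromSpecResidueField x) hr)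
  obtain ⟨θ, hθ⟩ := H ρ
  have h2 := (isPullback_SpecMap_of_isPushout φ ρ θ ψ hθ).paste_horiz h
  rw [hρ, IsOpenImmersion.lift_fac] at h2
  exact ⟨h2.isoPullback.symm, by rw [Iso.symm_hom, Iso.inv_comp_eq, h2.isoPullback_hom_snd]⟩

theorem exists_pushout_polynomial {R S K : CommRingCat.{u}} (φ : R ⟶ S) (e : Polynomial R ≃+* S)
    (he : ∀ r, e (Polynomial.C r) = φ.hom r) (ρ : R ⟶ K) :
    ∃ θ : S ⟶ CommRingCat.of (Polynomial K),
      IsPushout φ ρ θ (CommRingCat.ofHom (algebraMap K (Polynomial K))) := by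
  letI := ρ.hom.toAlgebra
  have h := (CommRingCat.isPushout_of_isPushout R K (Polynomial R) (Polynomial K)).flip
  refine ⟨CommRingCat.ofHom ((algebraMap (Polynomial R) (Polynomial K)).comp e.symm.toRingHom),
    h.of_iso (Iso.refl _) e.toCommRingCatIso (Iso.refl _) (Iso.refl _) ?_ ?_ ?_ ?_⟩
  · refine CommRingCat.hom_ext (RingHom.ext fun r => ?_)
    show e (Polynomial.C r) = φ.hom r
    exact he r
  · rfl
  · refine CommRingCat.hom_ext (RingHom.ext fun r => ?_)
    show algebraMap (Polynomial R) (Polynomial K) r = algebraMap (Polynomial R) (Polynomial K) (e.symm (e r))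
    rw [RingEquiv.symm_apply_apply]
  · rfl

theorem exists_pushout_laurent {R S K : CommRingCat.{u}} (φ : R ⟶ S) (e : LaurentPolynomial R ≃+* S)
    (he : ∀ r, e (LaurentPolynomial.C r) = φ.hom r) (ρ : R ⟶ K) :
    ∃ θ : S ⟶ CommRingCat.of (LaurentPolynomial K),
      IsPushout φ ρ θ (CommRingCat.ofHom (algebraMap K (LaurentPolynomial K))) := by
  letI := ρ.hom.toAlgebra
  have h := (CommRingCat.isPushout_of_isPushout R K (LaurentPolynomial R) (LaurentPolynomial K)).flip
  refine ⟨CommRingCat.ofHom ((algebraMap (LaurentPolynomial R) (LaurentPolynomial K)).comp e.symm.toRingHom),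
    h.of_iso (Iso.refl _) e.toCommRingCatIso (Iso.refl _) (Iso.refl _) ?_ ?_ ?_ ?_⟩
  · refine CommRingCat.hom_ext (RingHom.ext fun r => ?_)
    show e (LaurentPolynomial.C r) = φ.hom r
    exact he r
  · rfl
  · refine CommRingCat.hom_ext (RingHom.ext fun r => ?_)
    show algebraMap (LaurentPolynomial R) (LaurentPolynomial K) r =
      algebraMap (LaurentPolynomial R) (LaurentPolynomial K) (e.symm (e r))
    rw [RingEquiv.symm_apply_apply]
  · rfl

theorem finiteType_of_equiv {R S S' : Type u} [CommRing R] [CommRing S] [CommRing S'] [Algebra R S]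
    (hS : Algebra.FiniteType R S) (g : R →+* S') (e : S ≃+* S') (he : ∀ r, e (algebraMap R S r) = g r) :
    g.FiniteType := by
  letI := g.toAlgebra
  show RingHom.FiniteType (algebraMap R S')
  rw [RingHom.finiteType_algebraMap]
  exact hS.equiv (AlgEquiv.ofRingEquiv (f := e) he)

section data

variable {R A : Type u} [CommRing R] [CommRing A] [Algebra R A] {𝒜 : ℕ → Submodule R A} [GradedAlgebra 𝒜]
  {E : Scheme.{u}} (D : Proj16.ToProjData 𝒜 E)
  (hpre : ∀ {d : ℕ} {f : A} (hf : f ∈ 𝒜 d) (hd : 0 < d),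
    D.map ⁻¹ᵁ Proj.basicOpen 𝒜 f = (D.chart hf hd).opensRange)

include hpre in
theorem isPullback_chart {d : ℕ} {f : A} (hf : f ∈ 𝒜 d) (hd : 0 < d) :
    IsPullback (D.chart hf hd) (Spec.map (D.toRing f)) D.map (Proj.awayι 𝒜 f hf hd) :=
  (IsOpenImmersion.isPullback (Spec.map (D.toRing f)) (D.chart hf hd) (Proj.awayι 𝒜 f hf hd) D.map
    (D.chart_map hf hd) (by rw [Proj.opensRange_awayι]; exact hpre hf hd)).flip

theorem exists_mem_degOne (hgen : (HomogeneousIdeal.irrelevant 𝒜).toIdeal = Ideal.span (𝒜 1 : Set A))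
    (x : Proj 𝒜) : ∃ f ∈ 𝒜 1, x ∈ Proj.basicOpen 𝒜 f := by
  by_contra! h
  refine x.not_irrelevant_le (show (HomogeneousIdeal.irrelevant 𝒜).toIdeal ≤ x.asHomogeneousIdeal.toIdeal from ?_)
  rw [hgen, Ideal.span_le]
  intro f hf
  have := h f hf
  rw [Proj.mem_basicOpen] at this
  exact not_not.1 this

include hpre in
theorem isAffine_lft (hgen : (HomogeneousIdeal.irrelevant 𝒜).toIdeal = Ideal.span (𝒜 1 : Set A))
    (hft : ∀ f ∈ 𝒜 1, (D.toRing f).hom.FiniteType) : LocallyOfFiniteType D.map ∧ QuasiCompact D.map := by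
  haveI : IsAffineHom D.map := D.isAffineHom_map hpre
  refine ⟨?_, inferInstance⟩
  refine IsZariskiLocalAtTarget.of_iSup_eq_top (P := @LocallyOfFiniteType)
    (fun f : {f : A // f ∈ 𝒜 1} => (Proj.awayι 𝒜 f.1 f.2 one_pos).opensRange) ?_ fun f => ?_
  · refine eq_top_iff.2 fun x _ => ?_
    obtain ⟨f, hf, hx⟩ := exists_mem_degOne hgen x
    exact TopologicalSpace.Opens.mem_iSup.2 ⟨⟨f, hf⟩, by rw [Proj.opensRange_awayι]; exact hx⟩
  · refine (MorphismProperty.arrow_mk_iso_iff @LocallyOfFiniteType (morphismRestrictOpensRange _ _)).2 ?_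
    have h := isPullback_chart D hpre f.2 one_pos
    haveI : LocallyOfFiniteType (Spec.map (D.toRing f.1)) :=
      (HasRingHomProperty.Spec_iff (P := @LocallyOfFiniteType)).2 (hft f.1 f.2)
    rw [← h.isoPullback_inv_snd]
    infer_instance

end data

variable {R A : Type u} [CommRing R] [CommRing A] [Algebra R A] (𝒜 : ℕ → Submodule R A) [GradedAlgebra 𝒜]

theorem coneData_preimage {d : ℕ} {f : A} (hf : f ∈ 𝒜 d) (hd : 0 < d) :
    (Proj16.coneData 𝒜).map ⁻¹ᵁ Proj.basicOpen 𝒜 f = ((Proj16.coneData 𝒜).chart hf hd).opensRange := by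
  refine (Proj16.coneData 𝒜).preimage_basicOpen (fun {d e f g} hf hd hg he z hz ↦ ?_) hf hd
  refine (Proj16.cone_range_chart 𝒜 hf hd).ge ?_
  have h1 : ((Cone.pointed 𝒜).ι (Cone.chart hg he z)) =
      PrimeSpectrum.comap (algebraMap A (Localization.Away g)) z := by
    rw [← Scheme.Hom.comp_apply, Cone.chart, IsOpenImmersion.lift_fac]
    rfl
  show f ∉ ((Cone.pointed 𝒜).ι (Cone.chart hg he z)).asIdeal
  rw [h1]
  intro hfz
  change algebraMap A (Localization.Away g) f ∈ z.asIdeal at hfz
  apply hz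
  show algebraMap (HomogeneousLocalization.Away 𝒜 g) (Localization.Away g)
    (HomogeneousLocalization.Away.isLocalizationElem hg hf) ∈ z.asIdeal
  rw [HomogeneousLocalization.algebraMap_apply, HomogeneousLocalization.Away.val_mk, Localization.mk_eq_mk',
    IsLocalization.mk'_eq_mul_mk'_one, map_pow]
  exact z.asIdeal.mul_mem_right _ (Ideal.pow_mem_of_mem _ hfz _ he)

end Groth.Agent.ConeFib17
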