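import Groth.Agent.ConeFib17.Fibre
import Groth.Agent.ConeFib17.Away
import Groth.Agent.ProjQX.Cone
import Groth.Agent.ProjQX.SameBase
import Groth.Agent.ConeX.Pointed
import Groth.Agent.S8308

/-!
# The retractions of the pointed cones over a general base, chart by chart
-/

set_option autoImplicit false
set_option linter.style.haveILetI false
set_option backward.isDefEq.respectTransparency false
set_option backward.isDefEq.respectTransparency.types false

universe u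

open CategoryTheory CategoryTheory.Limits AlgebraicGeometry TopologicalSpace Opposite
open scoped HomogeneousIdeal

noncomputable section

namespace Groth.Agent.ConeFib17

open Groth.Agent.ProjQX

/-- Gluing fibre isomorphisms and finiteness from cartesian charts. -/
theorem of_charts {E P : Scheme.{u}} (r : E ⟶ P) [IsAffineHom r] (T : ∀ K : CommRingCat.{u}, CommRingCat.{u})
    (ψ : ∀ K, K ⟶ T K)
    (H : ∀ x : P, ∃ (R S : CommRingCat.{u}) (φ : R ⟶ S) (a : Spec R ⟶ P) (c : Spec S ⟶ E),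
      IsOpenImmersion a ∧ IsPullback c (Spec.map φ) r a ∧ x ∈ Set.range a ∧ φ.hom.FiniteType ∧
        ∀ (K : CommRingCat.{u}) (ρ : R ⟶ K), ∃ θ : S ⟶ T K, IsPushout φ ρ θ (ψ K)) :
    LocallyOfFiniteType r ∧ QuasiCompact r ∧
      ∀ x : P, ∃ e : pullback r (P.fromSpecResidueField x) ≅ Spec (T (P.residueField x)),
        e.hom ≫ Spec.map (ψ (P.residueField x)) = pullback.snd r (P.fromSpecResidueField x) := by
  choose R S φ a c hopen hpb hmem hft hpo using H
  refine ⟨?_, inferInstance, fun x => ?_⟩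
  · refine IsZariskiLocalAtTarget.of_iSup_eq_top (P := @LocallyOfFiniteType)
      (fun x : P => haveI := hopen x; (a x).opensRange) ?_ fun x => ?_
    · exact eq_top_iff.2 fun x _ => Opens.mem_iSup.2 ⟨x, hmem x⟩
    · haveI := hopen x
      refine (MorphismProperty.arrow_mk_iso_iff @LocallyOfFiniteType (morphismRestrictOpensRange _ _)).2 ?_
      haveI : LocallyOfFiniteType (Spec.map (φ x)) :=
        (HasRingHomProperty.Spec_iff (P := @LocallyOfFiniteType)).2 (hft x)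
      rw [← (hpb x).isoPullback_inv_snd]
      infer_instance
  · haveI := hopen x
    exact exists_fibre_iso r (φ x) (a x) (c x) (hpb x) (hmem x) _ _ (hpo x _)

variable {Y PC P : Scheme.{u}} {𝒮 𝒮h : RelProj.QCGrAlg Y} {ι : 𝒮.toQCAlg ⟶ 𝒮h.toQCAlg}
  {z : 𝒮h.presheaf.obj (op ⊤)} {hz : RelCone.IsPolyOver 𝒮 𝒮h ι z} {pC : PC ⟶ Y}
  {chartC : ∀ (U : Y.Opens) (hU : IsAffineOpen U), (((pC ⁻¹ᵁ U : PC.Opens) : Scheme.{u}) ≅ Proj (𝒮h.deg U hU))}
  (hPC : RelProj.IsRelProj 𝒮h pC chartC) {p : P ⟶ Y}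
  {chart : ∀ (U : Y.Opens) (hU : IsAffineOpen U), (((p ⁻¹ᵁ U : P.Opens) : Scheme.{u}) ≅ Proj (𝒮.deg U hU))}
  (hP : RelProj.IsRelProj 𝒮 p chart)
  (r : ((RelCone.pointedProjCone 𝒮 hz pC chartC : PC.Opens) : Scheme.{u}) ⟶ P)
  (hr : ∀ (U : Y.Opens) (hU : IsAffineOpen U) (d : ℕ) (hd : 0 < d) (f : 𝒮.presheaf.obj (op U))
      (hf : f ∈ 𝒮.deg U hU d)
      (g : Spec (CommRingCat.of (HomogeneousLocalization.Away (𝒮h.deg U hU) ((RelProj.gradedHomAt ι hz.graded U hU) f))) ⟶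
        ((RelCone.pointedProjCone 𝒮 hz pC chartC : PC.Opens) : Scheme.{u})),
      g ≫ (RelCone.pointedProjCone 𝒮 hz pC chartC).ι =
          Proj.awayι (𝒮h.deg U hU) ((RelProj.gradedHomAt ι hz.graded U hU) f) ((RelProj.gradedHomAt ι hz.graded U hU).2 hf) hd ≫
            RelProj.emb pC chartC U hU →
        g ≫ r =
          Spec.map (CommRingCat.ofHom (HomogeneousLocalization.Away.map (RelProj.gradedHomAt ι hz.graded U hU) f)) ≫
            Proj.awayι (𝒮.deg U hU) f hf hd ≫ RelProj.emb p chart U hU)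

theorem exists_degOne (hgen : 𝒮.IsGenDegOne) (p : P ⟶ Y)
    (chart : ∀ (U : Y.Opens) (hU : IsAffineOpen U), (((p ⁻¹ᵁ U : P.Opens) : Scheme.{u}) ≅ Proj (𝒮.deg U hU)))
    (x : P) : ∃ (U : Y.Opens) (hU : IsAffineOpen U) (f : 𝒮.presheaf.obj (op U)) (hf : f ∈ 𝒮.deg U hU 1),
      x ∈ Set.range (Proj.awayι (𝒮.deg U hU) f hf one_pos ≫ RelProj.emb p chart U hU) := by
  obtain ⟨_, ⟨U, hU, rfl⟩, hxU, -⟩ := Y.isBasis_affineOpens.exists_subset_of_mem_open
    (Set.mem_univ (p x)) isOpen_univ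
  obtain ⟨b, rfl⟩ := (mem_opensRange_emb (chart := chart) hU).mpr hxU
  suffices h : ∃ f ∈ 𝒮.deg U hU 1, b ∈ Proj.basicOpen (𝒮.deg U hU) f by
    obtain ⟨f, hf, hb⟩ := h
    rw [← Proj.opensRange_awayι (𝒮.deg U hU) f hf one_pos] at hb
    obtain ⟨y, rfl⟩ := hb
    exact ⟨U, hU, f, hf, y, rfl⟩
  classical
  set q := (b : ProjectiveSpectrum (𝒮.deg U hU)).asHomogeneousIdeal
  by_contra! h
  obtain ⟨d, g, hd, hg, hgb⟩ := exists_homogeneous (𝒮.deg U hU) b
  apply hgb
  show g ∈ q.toIdeal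
  have key : ∀ a : 𝒮.presheaf.obj (op U), a - GradedRing.proj (𝒮.deg U hU) 0 a ∈ q.toIdeal := by
    intro a
    have ha : a ∈ Subring.closure ((𝒮.deg U hU 0 : Set (𝒮.presheaf.obj (op U))) ∪ (𝒮.deg U hU 1 : Set _)) := by
      rw [hgen U hU]; trivial
    induction ha using Subring.closure_induction with
    | mem y hy =>
      rcases hy with hy | hy
      · rw [GradedRing.proj_apply, DirectSum.decompose_of_mem_same _ hy, sub_self]
        exact zero_mem _
      · rw [GradedRing.proj_apply, DirectSum.decompose_of_mem_ne _ hy Nat.one_ne_zero, sub_zero]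
        exact not_not.1 fun hy' => h y hy hy'
    | zero => simp
    | one =>
      rw [GradedRing.proj_apply, DirectSum.decompose_of_mem_same _ SetLike.GradedOne.one_mem, sub_self]
      exact zero_mem _
    | add a b _ _ ha hb =>
      rw [map_add, add_sub_add_comm]
      exact add_mem ha hb
    | neg a _ ha =>
      rw [map_neg, sub_neg_eq_add, neg_add_eq_sub, ← neg_sub]
      exact neg_mem ha
    | mul a b _ _ ha hb =>
      rw [show GradedRing.proj (𝒮.deg U hU) 0 (a * b) = GradedRing.proj (𝒮.deg U hU) 0 a * GradedRing.proj (𝒮.deg U hU) 0 b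
        from map_mul (GradedRing.projZeroRingHom (𝒮.deg U hU)) a b]
      have e : a * b - GradedRing.proj (𝒮.deg U hU) 0 a * GradedRing.proj (𝒮.deg U hU) 0 b =
          (a - GradedRing.proj (𝒮.deg U hU) 0 a) * b +
            GradedRing.proj (𝒮.deg U hU) 0 a * (b - GradedRing.proj (𝒮.deg U hU) 0 b) := by ring
      rw [e]
      exact add_mem (q.toIdeal.mul_mem_right _ ha) (q.toIdeal.mul_mem_left _ hb)
  have := key g
  rwa [GradedRing.proj_apply, DirectSum.decompose_of_mem_ne _ hg hd.ne', sub_zero] at this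

include hPC hP hr in
/-- Membership in the preimage of a chart of `Proj 𝒮`. -/
theorem r_mem_iff (h0 : RelCone.StrZeroBij 𝒮) {U : Y.Opens} (hU : IsAffineOpen U) {d : ℕ} {f : 𝒮.presheaf.obj (op U)}
    (hf : f ∈ 𝒮.deg U hU d) (hd : 0 < d)
    (x : ((RelCone.pointedProjCone 𝒮 hz pC chartC : PC.Opens) : Scheme.{u})) (a : Proj (𝒮h.deg U hU))
    (ha : RelProj.emb pC chartC U hU a = x.1) :
    r x ∈ RelProj.emb p chart U hU ''ᵁ Proj.basicOpen (𝒮.deg U hU) f ↔
      a ∈ Proj.basicOpen (𝒮h.deg U hU) ((RelProj.gradedHomAt ι hz.graded U hU) f) := by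
  have heq := pointed_eq_domQ hz pC chartC hPC
  obtain ⟨v, hv, -⟩ := existsUnique_map (u := RelProj.QGrHom.ofHom ι hz.graded) hP hPC
  let e : ((RelCone.pointedProjCone 𝒮 hz pC chartC : PC.Opens) : Scheme.{u}) ⟶
      (RelProj.domQ (RelProj.QGrHom.ofHom ι hz.graded) pC chartC : Scheme.{u}) := PC.homOfLE heq.le
  have key : ∀ (V : Y.Opens) (hV : IsAffineOpen V) (k : ℕ) (hk : 0 < k) (g₀ : 𝒮.presheaf.obj (op V))
      (hg₀ : g₀ ∈ 𝒮.deg V hV k) (χ : 𝒮.deg V hV →+*ᵍ 𝒮h.deg V hV), χ = RelProj.gradedHomAt ι hz.graded V hV →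
      ((∀ g : Spec (CommRingCat.of (HomogeneousLocalization.Away (𝒮h.deg V hV) (χ g₀))) ⟶ _,
        g ≫ (RelCone.pointedProjCone 𝒮 hz pC chartC).ι =
            Proj.awayι (𝒮h.deg V hV) (χ g₀) (χ.2 hg₀) hk ≫ RelProj.emb pC chartC V hV →
          g ≫ e ≫ v = Spec.map (CommRingCat.ofHom (HomogeneousLocalization.Away.map χ g₀)) ≫
              Proj.awayι (𝒮.deg V hV) g₀ hg₀ hk ≫ RelProj.emb p chart V hV) ↔
      ∀ g : Spec (CommRingCat.of (HomogeneousLocalization.Away (𝒮h.deg V hV)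
          ((RelProj.gradedHomAt ι hz.graded V hV) g₀))) ⟶ _,
        g ≫ (RelCone.pointedProjCone 𝒮 hz pC chartC).ι =
            Proj.awayι (𝒮h.deg V hV) ((RelProj.gradedHomAt ι hz.graded V hV) g₀)
              ((RelProj.gradedHomAt ι hz.graded V hV).2 hg₀) hk ≫ RelProj.emb pC chartC V hV →
          g ≫ e ≫ v = Spec.map (CommRingCat.ofHom (HomogeneousLocalization.Away.map
              (RelProj.gradedHomAt ι hz.graded V hV) g₀)) ≫
              Proj.awayι (𝒮.deg V hV) g₀ hg₀ hk ≫ RelProj.emb p chart V hV) := by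
    rintro V hV k hk g₀ hg₀ χ rfl
    exact Iff.rfl
  have h1 : e ≫ v = r := by
    refine ((S8308.result 𝒮 𝒮h h0 ι z hz pC chartC hPC p chart hP).1).unique ?_ hr
    intro V hV k hk g₀ hg₀
    refine (key V hV k hk g₀ hg₀ ((RelProj.QGrHom.ofHom ι hz.graded).gradedAt V hV V hV le_rfl) ?_).mp
      fun g hg => ?_
    · ext b
      exact gradedAt_ofHom V hV le_rfl b
    · let j : Idx (RelProj.QGrHom.ofHom ι hz.graded) := ⟨V, hV, V, hV, le_rfl, k, hk, g₀, hg₀⟩
      have hge : g ≫ e = embDom chartC j := by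
        rw [← cancel_mono (RelProj.domQ (RelProj.QGrHom.ofHom ι hz.graded) pC chartC).ι, Category.assoc,
          Scheme.homOfLE_ι, hg, embDom_ι]
        rfl
      rw [reassoc_of% hge, (isProjQMapOn_domQ_iff _ chart chartC v).mp hv j]
      rfl
  rw [← h1, Scheme.Hom.comp_apply]
  have hex : (e x).1 = x.1 := congrArg (fun k : ((RelCone.pointedProjCone 𝒮 hz pC chartC : PC.Opens) : Scheme.{u}) ⟶ PC =>
    k x) (Scheme.homOfLE_ι PC heq.le)
  refine (map_mem_iff hP hPC hv (U := U) (hU := hU) (hU' := hU) le_rfl hd hf (e x) (ha.trans hex.symm)).trans ?_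
  rw [show (RelProj.QGrHom.ofHom ι hz.graded).gradedAt U hU U hU le_rfl f = (RelProj.gradedHomAt ι hz.graded U hU) f from
    gradedAt_ofHom U hU le_rfl f]

/-- The chart `Spec 𝒮h(U)_(ι f) ⟶ Ê`. -/
theorem exists_chartHat {U : Y.Opens} (hU : IsAffineOpen U) {d : ℕ} {f : 𝒮.presheaf.obj (op U)}
    (hf : f ∈ 𝒮.deg U hU d) (hd : 0 < d) :
    ∃ c : Spec (CommRingCat.of (HomogeneousLocalization.Away (𝒮h.deg U hU) ((RelProj.gradedHomAt ι hz.graded U hU) f))) ⟶
        ((RelCone.pointedProjCone 𝒮 hz pC chartC : PC.Opens) : Scheme.{u}),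
      c ≫ (RelCone.pointedProjCone 𝒮 hz pC chartC).ι =
        Proj.awayι (𝒮h.deg U hU) ((RelProj.gradedHomAt ι hz.graded U hU) f)
          ((RelProj.gradedHomAt ι hz.graded U hU).2 hf) hd ≫ RelProj.emb pC chartC U hU := by
  refine ⟨IsOpenImmersion.lift (RelCone.pointedProjCone 𝒮 hz pC chartC).ι _ ?_, IsOpenImmersion.lift_fac _ _ _⟩
  rintro _ ⟨y, rfl⟩
  rw [Scheme.Opens.range_ι]
  refine Opens.mem_iSup.mpr ⟨⟨U, hU⟩, Proj.awayι (𝒮h.deg U hU) _ _ hd y, ?_, rfl⟩
  exact mem_domOpen_of_homogeneous (RelProj.gradedHomAt ι hz.graded U hU) hd hf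
    ((Proj.opensRange_awayι (𝒮h.deg U hU) _ ((RelProj.gradedHomAt ι hz.graded U hU).2 hf) hd).le ⟨y, rfl⟩)

include hPC hP hr in
theorem isPullback_chartHat (h0 : RelCone.StrZeroBij 𝒮) {U : Y.Opens} (hU : IsAffineOpen U) {d : ℕ}
    {f : 𝒮.presheaf.obj (op U)} (hf : f ∈ 𝒮.deg U hU d) (hd : 0 < d)
    {c : Spec (CommRingCat.of (HomogeneousLocalization.Away (𝒮h.deg U hU) ((RelProj.gradedHomAt ι hz.graded U hU) f))) ⟶
        ((RelCone.pointedProjCone 𝒮 hz pC chartC : PC.Opens) : Scheme.{u})}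
    (hc : c ≫ (RelCone.pointedProjCone 𝒮 hz pC chartC).ι =
        Proj.awayι (𝒮h.deg U hU) ((RelProj.gradedHomAt ι hz.graded U hU) f)
          ((RelProj.gradedHomAt ι hz.graded U hU).2 hf) hd ≫ RelProj.emb pC chartC U hU) :
    IsPullback c (Spec.map (CommRingCat.ofHom (HomogeneousLocalization.Away.map (RelProj.gradedHomAt ι hz.graded U hU) f)))
      r (Proj.awayι (𝒮.deg U hU) f hf hd ≫ RelProj.emb p chart U hU) := by
  haveI : IsOpenImmersion (c ≫ (RelCone.pointedProjCone 𝒮 hz pC chartC).ι) := by rw [hc]; infer_instance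
  haveI : IsOpenImmersion c := IsOpenImmersion.of_comp c (RelCone.pointedProjCone 𝒮 hz pC chartC).ι
  have hover := ((S8308.result 𝒮 𝒮h h0 ι z hz pC chartC hPC p chart hP).2 r hr).2.2.1
  refine (IsOpenImmersion.isPullback _ c (Proj.awayι (𝒮.deg U hU) f hf hd ≫ RelProj.emb p chart U hU) r
    (hr U hU d hd f hf c hc) (Opens.ext (Set.ext fun x => ?_))).flip
  constructor
  · intro hx
    have hxU : pC x.1 ∈ U := by
      have h2 : p (r x) = pC x.1 := congrArg (fun k : ((RelCone.pointedProjCone 𝒮 hz pC chartC : PC.Opens) : Scheme.{u}) ⟶ Y =>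
        k x) hover
      rw [← h2]
      obtain ⟨b, hb⟩ := hx
      exact (mem_opensRange_emb (chart := chart) hU).mp ⟨Proj.awayι (𝒮.deg U hU) f hf hd b, hb⟩
    obtain ⟨a, ha⟩ := (mem_opensRange_emb (chart := chartC) hU).mpr hxU
    have h3 : a ∈ Proj.basicOpen (𝒮h.deg U hU) ((RelProj.gradedHomAt ι hz.graded U hU) f) := by
      refine (r_mem_iff hPC hP r hr h0 hU hf hd x a ha).mp ?_
      obtain ⟨b, hb⟩ := hx
      refine ⟨Proj.awayι (𝒮.deg U hU) f hf hd b, ?_, hb⟩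
      rw [← Proj.opensRange_awayι (𝒮.deg U hU) f hf hd]
      exact ⟨b, rfl⟩
    obtain ⟨y, rfl⟩ :=
      (Proj.opensRange_awayι (𝒮h.deg U hU) _ ((RelProj.gradedHomAt ι hz.graded U hU).2 hf) hd).ge h3
    refine ⟨y, Subtype.ext ?_⟩
    exact (congrArg (fun k : Spec _ ⟶ PC => k y) hc).trans ha
  · rintro ⟨y, rfl⟩
    exact ⟨_, (congrArg (fun k : Spec _ ⟶ P => k y) (hr U hU d hd f hf c hc)).symm⟩

include hPC in
theorem coneImm_over {i : 𝒮.toQCAlg.spec ⟶ PC} (hi : RelCone.IsConeImm 𝒮 hz pC chartC i) :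
    i ≫ pC = 𝒮.toQCAlg.π := by
  refine RelSpecX.spec_hom_ext fun y => ?_
  obtain ⟨_, ⟨U, hU, rfl⟩, hyU, -⟩ := Y.isBasis_affineOpens.exists_subset_of_mem_open
    (Set.mem_univ y) isOpen_univ
  refine ⟨U, hU, hyU, ?_⟩
  rw [reassoc_of% (hi U hU), 𝒮.toQCAlg.ι_π, emb_over hPC U hU, Proj.awayι_toSpecZero_assoc,
    ← Spec.map_comp_assoc, ← Spec.map_comp_assoc]
  congr 2
  refine CommRingCat.hom_ext (RingHom.ext fun a => ?_)
  refine (hz.awayZToBase_of_val U hU _ ((𝒮h.str.app (op U)).hom a) 0 ?_).trans ?_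
  · show Localization.mk _ _ = _
    simp only [pow_zero]
    rfl
  · rw [show (𝒮h.str.app (op U)).hom a = (ι.hom.app (op U)).hom ((𝒮.str.app (op U)).hom a) by
      rw [← CommRingCat.comp_apply, ← NatTrans.comp_app, ι.comm], hz.evalOne_ι]

end Groth.Agent.ConeFib17
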