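import Groth.Agent.ConeFib17.Rel

/-!
# The retraction of the pointed affine cone over a general base, chart by chart
-/

set_option autoImplicit false
set_option linter.style.haveILetI false
set_option backward.isDefEq.respectTransparency false
set_option backward.isDefEq.respectTransparency.types false

universe u

open CategoryTheory CategoryTheory.Limits AlgebraicGeometry TopologicalSpace Opposite
open scoped HomogeneousIdeal

noncomputable section

namespace Groth.Agent.ConeFib17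

open Groth.Agent.ProjQX

variable {Y PC P : Scheme.{u}} {𝒮 𝒮h : RelProj.QCGrAlg Y} {ι : 𝒮.toQCAlg ⟶ 𝒮h.toQCAlg}
  {z : 𝒮h.presheaf.obj (op ⊤)} {hz : RelCone.IsPolyOver 𝒮 𝒮h ι z} {pC : PC ⟶ Y}
  {chartC : ∀ (U : Y.Opens) (hU : IsAffineOpen U), (((pC ⁻¹ᵁ U : PC.Opens) : Scheme.{u}) ≅ Proj (𝒮h.deg U hU))}
  (hPC : RelProj.IsRelProj 𝒮h pC chartC) {p : P ⟶ Y}
  {chart : ∀ (U : Y.Opens) (hU : IsAffineOpen U), (((p ⁻¹ᵁ U : P.Opens) : Scheme.{u}) ≅ Proj (𝒮.deg U hU))}
  (hP : RelProj.IsRelProj 𝒮 p chart)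
  (r : ((RelCone.pointedProjCone 𝒮 hz pC chartC : PC.Opens) : Scheme.{u}) ⟶ P)
  (hr : ∀ (U : Y.Opens) (hU : IsAffineOpen U) (d : ℕ) (hd : 0 < d) (f : 𝒮.presheaf.obj (op U))
      (hf : f ∈ 𝒮.deg U hU d)
      (g : Spec (CommRingCat.of (HomogeneousLocalization.Away (𝒮h.deg U hU) ((RelProj.gradedHomAt ι hz.graded U hU) f))) ⟶
        ((RelCone.pointedProjCone 𝒮 hz pC chartC : PC.Opens) : Scheme.{u})),
      g ≫ (RelCone.pointedProjCone 𝒮 hz pC chartC).ι =
          Proj.awayι (𝒮h.deg U hU) ((RelProj.gradedHomAt ι hz.graded U hU) f) ((RelProj.gradedHomAt ι hz.graded U hU).2 hf) hd ≫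
            RelProj.emb pC chartC U hU →
        g ≫ r =
          Spec.map (CommRingCat.ofHom (HomogeneousLocalization.Away.map (RelProj.gradedHomAt ι hz.graded U hU) f)) ≫
            Proj.awayι (𝒮.deg U hU) f hf hd ≫ RelProj.emb p chart U hU)
  {i : 𝒮.toQCAlg.spec ⟶ PC} (hi : RelCone.IsConeImm 𝒮 hz pC chartC i)
  (i' : ((RelCone.pointedCone 𝒮 : 𝒮.toQCAlg.spec.Opens) : Scheme.{u}) ⟶
    ((RelCone.pointedProjCone 𝒮 hz pC chartC : PC.Opens) : Scheme.{u}))
  (hi' : i' ≫ (RelCone.pointedProjCone 𝒮 hz pC chartC).ι = (RelCone.pointedCone 𝒮).ι ≫ i)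

include hPC hP hr hi hi' in
theorem exists_isPullback_chartAff (h0 : RelCone.StrZeroBij 𝒮) {U : Y.Opens} (hU : IsAffineOpen U) {d : ℕ}
    {f : 𝒮.presheaf.obj (op U)} (hf : f ∈ 𝒮.deg U hU d) (hd : 0 < d) :
    ∃ c : Spec (CommRingCat.of (Localization.Away f)) ⟶ ((RelCone.pointedCone 𝒮 : 𝒮.toQCAlg.spec.Opens) : Scheme.{u}),
      IsPullback c
        (Spec.map (CommRingCat.ofHom (algebraMap (HomogeneousLocalization.Away (𝒮.deg U hU) f) (Localization.Away f))))
        (i' ≫ r) (Proj.awayι (𝒮.deg U hU) f hf hd ≫ RelProj.emb p chart U hU) := by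
  let α := algebraMap (𝒮.presheaf.obj (op U)) (Localization.Away f)
  let θ : 𝒮h.presheaf.obj (op U) →+* Localization.Away f := α.comp (hz.evalOne U hU)
  haveI hoi : IsOpenImmersion (Spec.map (CommRingCat.ofHom α)) := IsOpenImmersion.of_isLocalization f
  have hrange : ∀ s : Spec (𝒮.presheaf.obj (op U)), s ∈ Set.range (Spec.map (CommRingCat.ofHom α)) ↔ f ∉ s.asIdeal :=
    fun s => Set.ext_iff.mp (PrimeSpectrum.localization_away_comap_range (Localization.Away f) f) s
  have hE : Set.range (Spec.map (CommRingCat.ofHom α) ≫ 𝒮.toQCAlg.ι U hU) ⊆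
      Set.range (RelCone.pointedCone 𝒮).ι := by
    rintro _ ⟨y, rfl⟩
    rw [Scheme.Opens.range_ι]
    exact (ConeX.mem_pointedCone 𝒮 U hU _).mpr ((ConeX.mem_vertexCompl _).mpr
      ⟨f, HomogeneousIdeal.mem_irrelevant_of_mem _ hd hf, (hrange _).mp ⟨y, rfl⟩⟩)
  let c := IsOpenImmersion.lift (RelCone.pointedCone 𝒮).ι _ hE
  have hc : c ≫ (RelCone.pointedCone 𝒮).ι = Spec.map (CommRingCat.ofHom α) ≫ 𝒮.toQCAlg.ι U hU :=
    IsOpenImmersion.lift_fac _ _ _
  haveI : IsOpenImmersion (c ≫ (RelCone.pointedCone 𝒮).ι) := by rw [hc]; infer_instance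
  haveI : IsOpenImmersion c := IsOpenImmersion.of_comp c (RelCone.pointedCone 𝒮).ι
  have hθι : ∀ a, θ ((RelProj.gradedHomAt ι hz.graded U hU) a) = α a := fun a => congrArg α (hz.evalOne_ι U hU a)
  have huf : IsUnit (θ ((RelProj.gradedHomAt ι hz.graded U hU) f)) := by
    rw [hθι]; exact IsLocalization.Away.algebraMap_isUnit f
  have huz : IsUnit (θ (RelCone.restrictTop 𝒮h z U)) := by
    show IsUnit (α (hz.evalOne U hU _))
    rw [hz.evalOne_z, map_one]; exact isUnit_one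
  obtain ⟨chat, hchat⟩ := exists_chartHat (hz := hz) (chartC := chartC) (hU := hU) hf hd
  have hz' : α.comp (hz.awayZToBase U hU) = liftAway θ huz := by
    refine liftAway_unique θ huz (hz.deg_z U hU) _ fun n x hx => ?_
    show α (hz.awayZToBase U hU _) * α (hz.evalOne U hU _) ^ n = α (hz.evalOne U hU x)
    rw [hz.awayZToBase_of_val U hU _ x n (HomogeneousLocalization.Away.val_mk _ _ _ _ _), hz.evalOne_z,
      map_one, one_pow, mul_one]
  have hg : c ≫ i' = Spec.map (CommRingCat.ofHom (liftAway θ huf)) ≫ chat := by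
    rw [← cancel_mono (RelCone.pointedProjCone 𝒮 hz pC chartC).ι, Category.assoc, Category.assoc, hi', hchat,
      reassoc_of% hc, hi U hU]
    erw [← Spec.map_comp_assoc]
    rw [← CommRingCat.ofHom_comp, hz']
    exact congrArg (· ≫ RelProj.emb pC chartC U hU)
      (spec_liftAway_awayι θ huz huf (hz.deg_z U hU) one_pos _ hd)
  have hα : (liftAway θ huf).comp (HomogeneousLocalization.Away.map (RelProj.gradedHomAt ι hz.graded U hU) f) =
      algebraMap (HomogeneousLocalization.Away (𝒮.deg U hU) f) (Localization.Away f) := by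
    refine RingHom.ext fun a => ?_
    obtain ⟨n, x, hx, rfl⟩ := a.mk_surjective (𝒮.deg U hU) hf
    rw [RingHom.comp_apply, HomogeneousLocalization.Away.map_mk]
    apply ((huf).pow n).mul_left_injective
    refine (liftAway_spec θ huf _ n _ _).trans ?_
    show θ ((RelProj.gradedHomAt ι hz.graded U hU) x) = _ * θ ((RelProj.gradedHomAt ι hz.graded U hU) f) ^ n
    rw [hθι, hθι, HomogeneousLocalization.algebraMap_apply, HomogeneousLocalization.Away.val_mk, ← map_pow,
      Localization.mk_eq_mk']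
    exact (IsLocalization.mk'_spec (Localization.Away f) x (⟨f ^ n, n, rfl⟩ : Submonoid.powers f)).symm
  refine ⟨c, (IsOpenImmersion.isPullback _ c (Proj.awayι (𝒮.deg U hU) f hf hd ≫ RelProj.emb p chart U hU) (i' ≫ r)
    ?_ (Opens.ext (Set.ext fun x => ?_))).flip⟩
  · rw [reassoc_of% hg, hr U hU d hd f hf chat hchat]
    erw [← Spec.map_comp_assoc]
    rw [← CommRingCat.ofHom_comp, hα]
  constructor
  · intro hx
    have hpb := isPullback_chartHat hPC hP r hr h0 hU hf hd hchat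
    obtain ⟨y, hy⟩ : i' x ∈ Set.range chat := by
      obtain ⟨b, hb⟩ := hx
      obtain ⟨w, hw, -⟩ := Scheme.exists_preimage_of_isPullback hpb (i' x) b hb.symm
      exact ⟨w, hw⟩
    have hix : i x.1 = RelProj.emb pC chartC U hU
        (Proj.awayι (𝒮h.deg U hU) _ ((RelProj.gradedHomAt ι hz.graded U hU).2 hf) hd y) :=
      ((congrArg (fun k : Spec _ ⟶ PC => k y) hchat).symm.trans (congrArg Subtype.val hy)).trans
        (congrArg (fun k : ((RelCone.pointedCone 𝒮 : 𝒮.toQCAlg.spec.Opens) : Scheme.{u}) ⟶ PC => k x) hi') |>.symm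
    have hxU : 𝒮.toQCAlg.π x.1 ∈ U := by
      rw [← coneImm_over hPC hi]
      show pC (i x.1) ∈ U
      rw [hix]
      exact (mem_opensRange_emb (chart := chartC) hU).mp ⟨_, rfl⟩
    obtain ⟨s, hs⟩ := (𝒮.toQCAlg.π_preimage U hU).le hxU
    have h3 : RelProj.emb pC chartC U hU (Proj.awayι (𝒮h.deg U hU) (RelCone.restrictTop 𝒮h z U) (hz.deg_z U hU) one_pos
        (Spec.map (CommRingCat.ofHom (hz.awayZToBase U hU)) s)) =
        RelProj.emb pC chartC U hU
          (Proj.awayι (𝒮h.deg U hU) _ ((RelProj.gradedHomAt ι hz.graded U hU).2 hf) hd y) := by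
      rw [← hix, ← hs, ← Scheme.Hom.comp_apply (𝒮.toQCAlg.ι U hU) i, hi U hU]
      rfl
    have h4 := (RelProj.emb pC chartC U hU).isOpenEmbedding.injective h3
    have h5 : f ∉ s.asIdeal := by
      have h6 : _ ∈ Proj.awayι (𝒮h.deg U hU) (RelCone.restrictTop 𝒮h z U) (hz.deg_z U hU) one_pos ⁻¹ᵁ
          Proj.basicOpen (𝒮h.deg U hU) ((ι.hom.app (op U)).hom f) :=
        h4 ▸ (Proj.opensRange_awayι (𝒮h.deg U hU) _ ((RelProj.gradedHomAt ι hz.graded U hU).2 hf) hd).le ⟨y, rfl⟩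
      rw [Proj.awayι_preimage_basicOpen (𝒜 := 𝒮h.deg U hU) (f_deg := hz.deg_z U hU) (hm := one_pos)
        (g_deg := hz.graded U hU d f hf) (hm' := hd)] at h6
      change ¬ (hz.awayZToBase U hU _ ∈ s.asIdeal) at h6
      rw [hz.awayZToBase_of_val U hU _ ((ι.hom.app (op U)).hom f ^ 1) d
        (HomogeneousLocalization.Away.val_mk _ _ _ _ _), map_pow, pow_one] at h6
      intro hfs
      exact h6 ((hz.evalOne_ι U hU f).symm ▸ hfs)
    obtain ⟨w, rfl⟩ := (hrange s).mpr h5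
    exact ⟨w, Subtype.ext ((congrArg (fun k : Spec _ ⟶ 𝒮.toQCAlg.spec => k w) hc).trans hs)⟩
  · rintro ⟨y, rfl⟩
    refine ⟨Spec.map (CommRingCat.ofHom (algebraMap (HomogeneousLocalization.Away (𝒮.deg U hU) f) (Localization.Away f))) y, ?_⟩
    rw [← Scheme.Hom.comp_apply, ← Scheme.Hom.comp_apply]
    congr 1
    rw [reassoc_of% hg, hr U hU d hd f hf chat hchat]
    erw [← Spec.map_comp_assoc]
    rw [← CommRingCat.ofHom_comp, hα]

end Groth.Agent.ConeFib17
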