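import Mathlib.RingTheory.GradedAlgebra.HomogeneousLocalization
import Mathlib.Algebra.Polynomial.Laurent
import Mathlib.Algebra.DirectSum.Ring
import Mathlib.AlgebraicGeometry.ProjectiveSpectrum.Functor

/-!
# Inverting an element of degree one
-/

set_option autoImplicit false
set_option linter.style.haveILetI false

universe u

open HomogeneousLocalization LaurentPolynomial DirectSum

noncomputable section

namespace Groth.Agent.ConeFib17

variable {A σ : Type u} [CommRing A] [SetLike σ A] [AddSubgroupClass σ A] {𝒜 : ℕ → σ} [GradedRing 𝒜]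
  {f : A} (hf : f ∈ 𝒜 1)

/-- `a ↦ a / f ^ i` on degree `i`. -/
def frac (i : ℕ) : 𝒜 i →+ Away 𝒜 f where
  toFun a := Away.mk 𝒜 hf i a.1 (by rw [smul_eq_mul, mul_one]; exact a.2)
  map_zero' := HomogeneousLocalization.val_injective _ (by
    rw [Away.val_mk, HomogeneousLocalization.val_zero]; exact Localization.mk_zero _)
  map_add' a b := HomogeneousLocalization.val_injective _ (by
    rw [HomogeneousLocalization.val_add, Away.val_mk, Away.val_mk, Away.val_mk]
    exact (Localization.add_mk_self ..).symm)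

theorem frac_val (i : ℕ) (a : 𝒜 i) :
    (frac hf i a).val = Localization.mk a.1 (⟨f ^ i, pow_mem (Submonoid.mem_powers f) i⟩ : Submonoid.powers f) :=
  Away.val_mk (hf := hf) ..

theorem frac_mul {i j : ℕ} (a : 𝒜 i) (b : 𝒜 j) :
    frac hf (i + j) ⟨a.1 * b.1, SetLike.mul_mem_graded a.2 b.2⟩ = frac hf i a * frac hf j b := by
  apply HomogeneousLocalization.val_injective
  rw [HomogeneousLocalization.val_mul, frac_val, frac_val, frac_val, Localization.mk_mul]
  congr 1
  exact Subtype.ext (pow_add f i j)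

theorem frac_one : frac hf 0 ⟨1, SetLike.one_mem_graded 𝒜⟩ = 1 := by
  apply HomogeneousLocalization.val_injective
  rw [HomogeneousLocalization.val_one, frac_val, ← Localization.mk_one]
  congr 1
  exact Subtype.ext (pow_zero f)

theorem frac_self : frac hf 1 ⟨f, hf⟩ = 1 := by
  apply HomogeneousLocalization.val_injective
  rw [HomogeneousLocalization.val_one, frac_val]
  convert Localization.mk_self (⟨f, Submonoid.mem_powers f⟩ : Submonoid.powers f) using 3
  exact pow_one f

/-- Setting `f = 1`. -/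
def dehom : A →+* Away 𝒜 f :=
  (DirectSum.toSemiring (frac hf) (frac_one hf) (fun a b => frac_mul hf a b)).comp
    (decomposeRingEquiv 𝒜).toRingHom

theorem dehom_of_mem {i : ℕ} {a : A} (ha : a ∈ 𝒜 i) : dehom hf a = frac hf i ⟨a, ha⟩ := by
  show DirectSum.toSemiring (frac hf) (frac_one hf) (fun a b => frac_mul hf a b) (decompose 𝒜 a) = _
  rw [decompose_of_mem 𝒜 ha, toSemiring_of]

theorem dehom_self : dehom hf f = 1 := (dehom_of_mem hf hf).trans (frac_self hf)

/-- Recording the degree. -/
def laurentHom : A →+* LaurentPolynomial (Away 𝒜 f) :=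
  (DirectSum.toSemiring
    (fun (i : ℕ) => (AddMonoidHom.mulRight (T (i : ℤ) : LaurentPolynomial (Away 𝒜 f))).comp
      ((LaurentPolynomial.C (R := Away 𝒜 f)).toAddMonoidHom.comp (frac hf i)))
    (by
      show LaurentPolynomial.C (frac hf 0 ⟨1, _⟩) * T ((0 : ℕ) : ℤ) = 1
      rw [frac_one hf, map_one, one_mul, Nat.cast_zero, T_zero])
    (fun {i j} a b => by
      show LaurentPolynomial.C (frac hf (i + j) ⟨a.1 * b.1, _⟩) * T ((i + j : ℕ) : ℤ) =
        LaurentPolynomial.C (frac hf i a) * T (i : ℤ) * (LaurentPolynomial.C (frac hf j b) * T (j : ℤ))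
      rw [frac_mul hf a b, map_mul, Nat.cast_add, T_add]
      ring)).comp
    (decomposeRingEquiv 𝒜).toRingHom

theorem laurentHom_of_mem {i : ℕ} {a : A} (ha : a ∈ 𝒜 i) :
    laurentHom hf a = LaurentPolynomial.C (frac hf i ⟨a, ha⟩) * T (i : ℤ) := by
  unfold laurentHom
  erw [RingHom.comp_apply]
  rw [show (decomposeRingEquiv 𝒜).toRingHom a = decompose 𝒜 a from rfl, decompose_of_mem 𝒜 ha, toSemiring_of]
  rfl

theorem laurentHom_self : laurentHom hf f = T 1 := by
  rw [laurentHom_of_mem hf hf, frac_self, map_one, one_mul]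
  rfl

/-- `f` in `A_f`. -/
def unitF : (Localization.Away f)ˣ := (IsLocalization.Away.algebraMap_isUnit (S := Localization.Away f) f).unit

/-- `A_(f)[T, T⁻¹] → A_f`. -/
def fromLaurent : LaurentPolynomial (Away 𝒜 f) →+* Localization.Away f :=
  LaurentPolynomial.eval₂ (algebraMap (Away 𝒜 f) (Localization.Away f)) (unitF (f := f))

include hf in
theorem fromLaurent_bijective : Function.Bijective (fromLaurent (𝒜 := 𝒜) (f := f)) := by
  have hu : IsUnit (laurentHom hf f) := by rw [laurentHom_self]; exact isUnit_T 1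
  let Ψ : Localization.Away f →+* LaurentPolynomial (Away 𝒜 f) := IsLocalization.Away.lift f hu
  have h1 : (fromLaurent (𝒜 := 𝒜) (f := f)).comp Ψ = RingHom.id _ := by
    refine IsLocalization.ringHom_ext (Submonoid.powers f) (RingHom.ext fun a => ?_)
    rw [RingHom.comp_apply, RingHom.comp_apply, RingHom.comp_apply, RingHom.id_apply, IsLocalization.Away.lift_eq]
    induction a using DirectSum.Decomposition.inductionOn 𝒜 with
    | zero => simp
    | @homogeneous i a =>
      rw [laurentHom_of_mem hf a.2, fromLaurent, LaurentPolynomial.eval₂_C_mul_T,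
        HomogeneousLocalization.algebraMap_apply, frac_val, zpow_natCast, Units.val_pow_eq_pow_val, unitF,
        IsUnit.unit_spec, Localization.mk_eq_mk', ← map_pow]
      exact IsLocalization.mk'_spec (Localization.Away f) a.1 (⟨f ^ i, pow_mem (Submonoid.mem_powers f) i⟩ : Submonoid.powers f)
    | add m m' hm hm' => rw [map_add, map_add, map_add, hm, hm']
  have hC : ∀ r : Away 𝒜 f, Ψ (algebraMap (Away 𝒜 f) (Localization.Away f) r) = LaurentPolynomial.C r := by
    intro r
    obtain ⟨n, a, ha, rfl⟩ := r.mk_surjective 𝒜 hf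
    have ha' : a ∈ 𝒜 n := by rwa [smul_eq_mul, mul_one] at ha
    rw [HomogeneousLocalization.algebraMap_apply, Away.val_mk, Localization.mk_eq_mk']
    apply (hu.pow n).mul_left_injective
    show Ψ _ * laurentHom hf f ^ n = _ * laurentHom hf f ^ n
    rw [← IsLocalization.Away.lift_eq (S := Localization.Away f) f hu f, ← map_pow, ← map_pow, ← map_mul]
    erw [IsLocalization.mk'_spec]
    rw [IsLocalization.Away.lift_eq, IsLocalization.Away.lift_eq, map_pow, laurentHom_of_mem hf ha',
      laurentHom_self, T_pow, mul_one]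
    rfl
  have hT : Ψ (unitF (f := f)) = T 1 := by
    rw [unitF, IsUnit.unit_spec, IsLocalization.Away.lift_eq, laurentHom_self]
  have h2 : Ψ.comp (fromLaurent (𝒜 := 𝒜) (f := f)) = RingHom.id _ := by
    refine RingHom.ext fun p => ?_
    induction p using LaurentPolynomial.induction_on' with
    | add p q hp hq => rw [map_add, hp, hq, map_add]
    | C_mul_T n r =>
      rw [RingHom.comp_apply, fromLaurent, LaurentPolynomial.eval₂_C_mul_T, map_mul, hC, RingHom.id_apply]
      refine congrArg (LaurentPolynomial.C r * ·) ?_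
      have hpow : ∀ m : ℕ, Ψ (((unitF (f := f)) ^ (m : ℤ) : (Localization.Away f)ˣ) : Localization.Away f) = T (m : ℤ) := by
        intro m
        rw [zpow_natCast, Units.val_pow_eq_pow_val, map_pow, hT, T_pow, mul_one]
      obtain ⟨m, rfl | rfl⟩ := Int.eq_nat_or_neg n
      · exact hpow m
      · apply (isUnit_T (R := Away 𝒜 f) (m : ℤ)).mul_left_injective
        show Ψ _ * T (m : ℤ) = T (-(m : ℤ)) * T (m : ℤ)
        rw [← hpow m, ← map_mul, ← Units.val_mul, hpow m, ← T_add, neg_add_cancel, T_zero, zpow_neg,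
          inv_mul_cancel, Units.val_one, map_one]
  exact ⟨Function.LeftInverse.injective (g := Ψ) (RingHom.congr_fun h2), Function.RightInverse.surjective (RingHom.congr_fun h1)⟩

section poly

variable {B τ : Type u} [CommRing B] [SetLike τ B] [AddSubgroupClass τ B] {ℬ : ℕ → τ} [GradedRing ℬ]
  (φ : 𝒜 →+*ᵍ ℬ) {z : B} (hz : z ∈ ℬ 1)

/-- `A_(f)[X] → B_(φ f)`, `X ↦ z / φ f`. -/
def fromPoly : Polynomial (Away 𝒜 f) →+* Away ℬ (φ f) :=
  Polynomial.eval₂RingHom (Away.map φ f) (frac (φ.2 hf) 1 ⟨z, hz⟩)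

theorem fromPoly_bijective (hhat : Function.Bijective (Polynomial.eval₂RingHom (φ : A →+* B) z)) :
    Function.Bijective (fromPoly hf φ hz) := by
  let e := RingEquiv.ofBijective (Polynomial.eval₂RingHom (φ : A →+* B) z) hhat
  let χ : B →+* Polynomial (Away 𝒜 f) := (Polynomial.mapRingHom (dehom hf)).comp e.symm.toRingHom
  have χφ : ∀ a, χ (φ a) = Polynomial.C (dehom hf a) := fun a => by
    have h : e (Polynomial.C a) = φ a := Polynomial.eval₂_C _ _
    show Polynomial.mapRingHom (dehom hf) (e.symm (φ a)) = _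
    rw [← h, RingEquiv.symm_apply_apply, Polynomial.coe_mapRingHom, Polynomial.map_C]
  have χz : χ z = Polynomial.X := by
    have h : e Polynomial.X = z := Polynomial.eval₂_X _ _
    show Polynomial.mapRingHom (dehom hf) (e.symm z) = _
    rw [← h, RingEquiv.symm_apply_apply, Polynomial.coe_mapRingHom, Polynomial.map_X]
  have hu : IsUnit (χ (φ f)) := by rw [χφ, dehom_self, map_one]; exact isUnit_one
  let χ' : Away ℬ (φ f) →+* Polynomial (Away 𝒜 f) :=
    (IsLocalization.Away.lift (φ f) hu).comp (algebraMap (Away ℬ (φ f)) (Localization.Away (φ f)))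
  have hχ' : ∀ (n : ℕ) (b : B) (hb : b ∈ ℬ n), χ' (frac (φ.2 hf) n ⟨b, hb⟩) = χ b := by
    intro n b hb
    show IsLocalization.Away.lift (φ f) hu (frac (φ.2 hf) n ⟨b, hb⟩).val = _
    have hf1 : χ (φ f) = 1 := (χφ f).trans (by rw [dehom_self, map_one])
    rw [frac_val, Localization.mk_eq_mk', IsLocalization.Away.lift, IsLocalization.lift_mk'_spec, map_pow]
    erw [hf1]
    rw [one_pow, one_mul]
  have hmap : ∀ (n : ℕ) (a : A) (ha : a ∈ 𝒜 n),
      Away.map φ f (frac hf n ⟨a, ha⟩) = frac (φ.2 hf) n ⟨φ a, φ.2 ha⟩ := fun n a ha => by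
    show Away.map φ f (Away.mk 𝒜 hf n a _) = _
    rw [Away.map_mk]
    rfl
  have h1 : χ'.comp (fromPoly hf φ hz) = RingHom.id _ := by
    refine Polynomial.ringHom_ext (fun r => ?_) ?_
    · obtain ⟨n, a, ha, rfl⟩ := r.mk_surjective 𝒜 hf
      have ha' : a ∈ 𝒜 n := by rwa [smul_eq_mul, mul_one] at ha
      show χ' (fromPoly hf φ hz (Polynomial.C (frac hf n ⟨a, ha'⟩))) = Polynomial.C (frac hf n ⟨a, ha'⟩)
      rw [fromPoly, Polynomial.coe_eval₂RingHom, Polynomial.eval₂_C, hmap, hχ', χφ, dehom_of_mem hf ha']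
    · show χ' (fromPoly hf φ hz Polynomial.X) = Polynomial.X
      rw [fromPoly, Polynomial.coe_eval₂RingHom, Polynomial.eval₂_X, hχ', χz]
  have h2 : (fromPoly hf φ hz).comp χ = dehom (φ.2 hf) := by
    refine RingHom.ext fun b => ?_
    obtain ⟨P, rfl⟩ := e.surjective b
    induction P using Polynomial.induction_on with
    | C a =>
      rw [show e (Polynomial.C a) = φ a from Polynomial.eval₂_C _ _, RingHom.comp_apply, χφ]
      rw [fromPoly, Polynomial.coe_eval₂RingHom, Polynomial.eval₂_C]
      induction a using DirectSum.Decomposition.inductionOn 𝒜 with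
      | zero => simp
      | @homogeneous i a =>
        rw [dehom_of_mem hf a.2, hmap]
        exact (dehom_of_mem (φ.2 hf) (φ.2 a.2)).symm
      | add m m' hm hm' => simp only [map_add, hm, hm']
    | add p q hp hq => simp only [map_add, hp, hq]
    | monomial n a h =>
      rw [pow_succ, ← mul_assoc, map_mul, map_mul, h, map_mul,
        show e Polynomial.X = z from Polynomial.eval₂_X _ _, RingHom.comp_apply, χz]
      simp only [map_mul]
      congr 1
      exact (Polynomial.eval₂_X _ _).trans (dehom_of_mem (φ.2 hf) hz).symm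
  refine ⟨Function.LeftInverse.injective (g := χ') (RingHom.congr_fun h1), fun y => ?_⟩
  obtain ⟨n, b, hb, rfl⟩ := y.mk_surjective ℬ (φ.2 hf)
  have hb' : b ∈ ℬ n := by rwa [smul_eq_mul, mul_one] at hb
  exact ⟨χ b, (RingHom.congr_fun h2 b).trans (dehom_of_mem (φ.2 hf) hb')⟩

end poly

end Groth.Agent.ConeFib17
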